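import Mathlib

/-!
Reflections of a hermitian or symmetric form in odd characteristic, and transvections of an
alternating form: a group of isometries that is normalised by the whole isometry group and is not
scalar contains a non-scalar element of order two, and only scalars commute projectively with the
isometry group.
-/

set_option autoImplicit false
set_option linter.unusedSectionVars false

namespace Cfsg.Agent.Small.Forms

variable {F : Type*} [Field F] {V : Type*} [AddCommGroup V] [Module F V]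

/-- The linear map is a scalar. -/
def IsScalar (m : V ≃ₗ[F] V) : Prop := ∃ l : F, ∀ x, m x = l • x

/-- A non-degenerate hermitian form (symmetric when `σ = id`). -/
structure Herm (F : Type*) [Field F] (V : Type*) [AddCommGroup V] [Module F V] where
  σ : F →+* F
  B : V → V → F
  add_right : ∀ u v w, B u (v + w) = B u v + B u w
  smul_right : ∀ (c : F) (u v), B u (c • v) = c * B u v
  symm : ∀ u v, σ (B u v) = B v u
  invol : ∀ a, σ (σ a) = a
  nondeg : ∀ u, u ≠ 0 → ∃ v, B u v ≠ 0

namespace Herm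

variable (H : Herm F V)

theorem add_left (u v w : V) : H.B (u + v) w = H.B u w + H.B v w := by
  rw [← H.symm, H.add_right, map_add, H.symm, H.symm]

theorem smul_left (c : F) (u v : V) : H.B (c • u) v = H.σ c * H.B u v := by
  rw [← H.symm, H.smul_right, map_mul, H.symm]

theorem zero_right (u : V) : H.B u 0 = 0 := by
  rw [← zero_smul F (0 : V), H.smul_right, zero_mul]

theorem zero_left (u : V) : H.B 0 u = 0 := by rw [← H.symm, H.zero_right, map_zero]

theorem sub_right (u v w : V) : H.B u (v - w) = H.B u v - H.B u w := by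
  rw [sub_eq_add_neg, ← neg_one_smul F w, H.add_right, H.smul_right]; ring

theorem sub_left (u v w : V) : H.B (u - v) w = H.B u w - H.B v w := by
  rw [← H.symm, H.sub_right, map_sub, H.symm, H.symm]

theorem neg_right (u v : V) : H.B u (-v) = -H.B u v := by
  rw [← neg_one_smul F v, H.smul_right]; ring

theorem neg_left (u v : V) : H.B (-u) v = -H.B u v := by
  rw [← H.symm, H.neg_right, map_neg, H.symm]

/-- The isometry group. -/
def Iso : Subgroup (V ≃ₗ[F] V) where
  carrier := {g | ∀ u v, H.B (g u) (g v) = H.B u v}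
  one_mem' _ _ := rfl
  mul_mem' {g h} hg hh u v := (hg _ _).trans (hh u v)
  inv_mem' {g} hg u v := by
    conv_rhs => rw [← g.apply_symm_apply u, ← g.apply_symm_apply v, hg]
    rfl

/-- `x ↦ x + κ B(v,x) v`. -/
def lin (v : V) (κ : F) : V →ₗ[F] V where
  toFun x := x + (κ * H.B v x) • v
  map_add' x y := by rw [H.add_right]; module
  map_smul' c x := by rw [H.smul_right, RingHom.id_apply]; module

theorem lin_comp {v : V} {κ : F} (hκ : κ + H.σ κ + κ * H.σ κ * H.B v v = 0) (x : V) :
    H.lin v κ (H.lin v (H.σ κ) x) = x := by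
  change x + (H.σ κ * H.B v x) • v + (κ * H.B v (x + (H.σ κ * H.B v x) • v)) • v = x
  rw [H.add_right, H.smul_right]
  have : (κ * (H.B v x + H.σ κ * H.B v x * H.B v v)) + H.σ κ * H.B v x = 0 := by
    linear_combination H.B v x * hκ
  rw [add_assoc, ← add_smul, add_comm (H.σ κ * H.B v x), this, zero_smul, add_zero]

open _root_.Classical in
/-- A pseudo-reflection, `1` for bad parameters. -/
noncomputable def pref (v : V) (κ : F) : V ≃ₗ[F] V :=
  if h : κ + H.σ κ + κ * H.σ κ * H.B v v = 0 then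
    LinearEquiv.ofLinear (H.lin v κ) (H.lin v (H.σ κ))
      (LinearMap.ext fun x => H.lin_comp h x)
      (LinearMap.ext fun x => by
        have := H.lin_comp (v := v) (κ := H.σ κ) (by rw [H.invol]; linear_combination h) x
        rwa [H.invol] at this)
  else 1

theorem pref_apply {v : V} {κ : F} (hκ : κ + H.σ κ + κ * H.σ κ * H.B v v = 0) (x : V) :
    H.pref v κ x = x + (κ * H.B v x) • v := by
  rw [pref, dif_pos hκ]; rfl

theorem pref_mem (v : V) (κ : F) : H.pref v κ ∈ H.Iso := by
  by_cases hκ : κ + H.σ κ + κ * H.σ κ * H.B v v = 0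
  swap
  · rw [pref, dif_neg hκ]; exact H.Iso.one_mem
  intro x y
  rw [H.pref_apply hκ, H.pref_apply hκ, H.add_left, H.add_right, H.add_right, H.smul_left,
    H.smul_left, H.smul_right, H.smul_right, map_mul, ← H.symm x v]
  rw [H.invol]
  linear_combination (H.B x v * H.B v y) * hκ

/-- An isometry moving `p` to `p'` that is trivial on the orthogonal of the difference. -/
theorem exists_move {p p' : V} (hQ : H.B p' p' = H.B p p) (hne : H.B (p' - p) p ≠ 0) :
    ∃ g ∈ H.Iso, g p = p' ∧ ∀ u, H.B (p' - p) u = 0 → g u = u := by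
  set β := H.B (p' - p) p with hβ
  have hσ : H.σ β ≠ 0 := (map_ne_zero H.σ).mpr hne
  have hκ : β⁻¹ + H.σ β⁻¹ + β⁻¹ * H.σ β⁻¹ * H.B (p' - p) (p' - p) = 0 := by
    have h1 : β + H.σ β + H.B (p' - p) (p' - p) = 0 := by
      rw [hβ, H.symm, H.sub_left, H.sub_right, H.sub_left, H.sub_right, H.sub_right, hQ]
      ring
    rw [map_inv₀]
    field_simp
    linear_combination h1
  refine ⟨_, H.pref_mem (p' - p) β⁻¹, ?_, fun u hu => ?_⟩
  · rw [H.pref_apply hκ, ← hβ, inv_mul_cancel₀ hne, one_smul, add_sub_cancel]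
  · rw [H.pref_apply hκ, hu, mul_zero, zero_smul, add_zero]

/-- The reflection. -/
noncomputable def refl (v : V) : V ≃ₗ[F] V := H.pref v (-2 / H.B v v)

theorem refl_apply (v x : V) : H.refl v x = x + (-2 / H.B v v * H.B v x) • v := by
  refine H.pref_apply ?_ x
  have hreal : H.σ (H.B v v) = H.B v v := H.symm v v
  rw [map_div₀, hreal, map_neg, map_ofNat]
  rcases eq_or_ne (H.B v v) 0 with h | h
  · simp [h]
  · field_simp; ring

theorem refl_mem (v : V) : H.refl v ∈ H.Iso := H.pref_mem _ _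

theorem refl_self {v : V} (h : H.B v v ≠ 0) : H.refl v v = -v := by
  rw [H.refl_apply, div_mul_cancel₀ _ h]; module

theorem refl_fix {v x : V} (h : H.B v x = 0) : H.refl v x = x := by
  rw [H.refl_apply, h, mul_zero, zero_smul, add_zero]

theorem refl_smul {c : F} (hc : c ≠ 0) (v : V) : H.refl (c • v) = H.refl v := by
  refine LinearEquiv.ext fun x => ?_
  have hσ : H.σ c ≠ 0 := (map_ne_zero H.σ).mpr hc
  rw [H.refl_apply, H.refl_apply, H.smul_left, H.smul_left, H.smul_right, smul_smul]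
  congr 2
  rcases eq_or_ne (H.B v v) 0 with h | h
  · simp [h]
  · field_simp

theorem refl_neg (v : V) : H.refl (-v) = H.refl v := by
  rw [← neg_one_smul F v, H.refl_smul (neg_ne_zero.mpr one_ne_zero)]

theorem refl_mul_self (v : V) : H.refl v * H.refl v = 1 := by
  refine LinearEquiv.ext fun x => ?_
  change H.refl v (H.refl v x) = x
  rw [H.refl_apply, H.refl_apply, H.add_right, H.smul_right, add_assoc, ← add_smul]
  rcases eq_or_ne (H.B v v) 0 with h | h
  · simp [h]
  · rw [add_eq_left, smul_eq_zero]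
    left
    field_simp
    ring

theorem refl_inv (v : V) : (H.refl v)⁻¹ = H.refl v := inv_eq_of_mul_eq_one_right (H.refl_mul_self v)

theorem refl_conj {g : V ≃ₗ[F] V} (hg : g ∈ H.Iso) (v : V) :
    g * H.refl v * g⁻¹ = H.refl (g v) := by
  rw [mul_inv_eq_iff_eq_mul]
  refine LinearEquiv.ext fun x => ?_
  change g (H.refl v x) = H.refl (g v) (g x)
  rw [H.refl_apply, H.refl_apply, hg, hg, map_add, map_smul]

/-- An isotropic partner. -/
theorem exists_partner (h2 : (2 : F) ≠ 0) {i : V} (hi : i ≠ 0) (hii : H.B i i = 0) :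
    ∃ j, H.B j j = 0 ∧ H.B i j = 1 := by
  obtain ⟨y, hy⟩ := H.nondeg i hi
  obtain ⟨j₀, hj₀⟩ : ∃ z₁, z₁ = (H.B i y)⁻¹ • y := ⟨_, rfl⟩
  have h1 : H.B i j₀ = 1 := by rw [hj₀, H.smul_right, inv_mul_cancel₀ hy]
  have h1' : H.B j₀ i = 1 := by rw [← H.symm, h1, map_one]
  refine ⟨j₀ + (-(H.B j₀ j₀) / 2) • i, ?_, by rw [H.add_right, H.smul_right, hii, mul_zero, h1, add_zero]⟩
  rw [H.add_left, H.add_right, H.add_right, H.smul_left, H.smul_left, H.smul_right, H.smul_right,
    h1, h1', hii, map_div₀, map_neg, H.symm, map_ofNat]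
  field_simp
  ring

/-- An isotropic partner orthogonal to a given anisotropic vector. -/
theorem exists_partner_perp (h2 : (2 : F) ≠ 0) {x i : V} (hx : H.B x x ≠ 0) (hi : i ≠ 0)
    (hii : H.B i i = 0) (hxi : H.B x i = 0) :
    ∃ j, H.B j j = 0 ∧ H.B i j = 1 ∧ H.B x j = 0 := by
  obtain ⟨y, hy⟩ := H.nondeg i hi
  have hix : H.B i x = 0 := by rw [← H.symm, hxi, map_zero]
  obtain ⟨y₁, hy₁⟩ : ∃ z₁, z₁ = y - (H.B x y / H.B x x) • x := ⟨_, rfl⟩
  obtain ⟨j₀, hj₀⟩ : ∃ z₁, z₁ = (H.B i y₁)⁻¹ • y₁ := ⟨_, rfl⟩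
  have hiy : H.B i y₁ = H.B i y := by rw [hy₁, H.sub_right, H.smul_right, hix, mul_zero, sub_zero]
  have h1 : H.B i j₀ = 1 := by rw [hj₀, H.smul_right, hiy, inv_mul_cancel₀ hy]
  have h1' : H.B j₀ i = 1 := by rw [← H.symm, h1, map_one]
  have hxj : H.B x j₀ = 0 := by
    rw [hj₀, H.smul_right, hy₁, H.sub_right x, H.smul_right _ x, div_mul_cancel₀ _ hx, sub_self,
      mul_zero]
  refine ⟨j₀ + (-(H.B j₀ j₀) / 2) • i, ?_,
    by rw [H.add_right, H.smul_right, hii, mul_zero, h1, add_zero],
    by rw [H.add_right, H.smul_right, hxj, hxi, mul_zero, add_zero]⟩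
  rw [H.add_left, H.add_right, H.add_right, H.smul_left, H.smul_left, H.smul_right, H.smul_right,
    h1, h1', hii, map_div₀, map_neg, H.symm, map_ofNat]
  field_simp
  ring

section Main

variable (h2 : (2 : F) ≠ 0)

/-- The set of parabolic or orthogonal configurations that yield an involution. -/
def Good (N : Subgroup (V ≃ₗ[F] V)) : Prop :=
  ∃ x y, H.B x x ≠ 0 ∧ H.B y y ≠ 0 ∧ H.B x y = 0 ∧ H.refl x * H.refl y ∈ N

variable (N : Subgroup (V ≃ₗ[F] V)) (hnorm : ∀ g ∈ H.Iso, ∀ m ∈ N, g * m * g⁻¹ ∈ N)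

include hnorm in
theorem rel_move {g : V ≃ₗ[F] V} (hg : g ∈ H.Iso) {x y : V}
    (h : H.refl x * H.refl y ∈ N) : H.refl (g x) * H.refl (g y) ∈ N := by
  have h1 := hnorm g hg _ h
  rwa [show g * (H.refl x * H.refl y) * g⁻¹ = g * H.refl x * g⁻¹ * (g * H.refl y * g⁻¹) by group,
    H.refl_conj hg, H.refl_conj hg] at h1

theorem rel_symm {x y : V} (h : H.refl x * H.refl y ∈ N) : H.refl y * H.refl x ∈ N := by
  have := N.inv_mem h
  rwa [_root_.mul_inv_rev, H.refl_inv, H.refl_inv] at this

theorem rel_trans {x y z : V} (h : H.refl x * H.refl y ∈ N) (h' : H.refl y * H.refl z ∈ N) :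
    H.refl x * H.refl z ∈ N := by
  have := N.mul_mem h h'
  rwa [mul_assoc, ← mul_assoc (H.refl y), H.refl_mul_self, one_mul] at this

include hnorm h2 in
theorem good_of_parabolic {x i : V} (hx : H.B x x ≠ 0) (hi : i ≠ 0) (hii : H.B i i = 0)
    (hxi : H.B x i = 0) (h : H.refl x * H.refl (x + i) ∈ N) : H.Good N := by
  have hix : H.B i x = 0 := by rw [← H.symm, hxi, map_zero]
  obtain ⟨j, hjj, hij, hxj⟩ := H.exists_partner_perp h2 hx hi hii hxi
  have hjx : H.B j x = 0 := by rw [← H.symm, hxj, map_zero]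
  have hji : H.B j i = 1 := by rw [← H.symm, hij, map_one]
  set a := H.B x x with ha
  have hreal : H.σ a = a := H.symm x x
  obtain ⟨g, hg, hgi, hgfix⟩ := H.exists_move (p := i) (p' := (-a) • j)
    (by rw [H.smul_left, H.smul_right, hjj, hii, mul_zero, mul_zero])
    (by rw [H.sub_left, H.smul_left, hji, hii, map_neg, hreal, mul_one, sub_zero]
        exact neg_ne_zero.mpr hx)
  have hgx : g x = x := hgfix x (by
    rw [H.sub_left, H.smul_left, hjx, hix, mul_zero, sub_zero])
  have h' := H.rel_move N hnorm hg h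
  rw [map_add, hgx, hgi] at h'
  refine ⟨x + i, x + (-a) • j, ?_, ?_, ?_, H.rel_trans N (H.rel_symm N h) h'⟩
  · simpa [H.add_left, H.add_right, hxi, hix, hii] using hx
  · rw [H.add_left, H.add_right, H.add_right, H.smul_left, H.smul_left, H.smul_right, H.smul_right,
      hxj, hjx, hjj]
    simpa [ha] using hx
  · rw [H.add_left, H.add_right, H.add_right, H.smul_right, H.smul_right, hxj, hix, hij, ha]
    ring

include hnorm h2 in
/-- A non-scalar group of isometries normalised by the isometry group contains a product of two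
orthogonal reflections. -/
theorem exists_good {e : V} (he : e ≠ 0) (hee : H.B e e = 0)
    (h3 : ∀ a b : V, ∃ z, z ≠ 0 ∧ H.B a z = 0 ∧ H.B b z = 0)
    {m : V ≃ₗ[F] V} (hmN : m ∈ N) (hm : m ∈ H.Iso) (hns : ¬ IsScalar m) : H.Good N := by
  obtain ⟨f, hff, hef⟩ := H.exists_partner h2 he hee
  have hfe : H.B f e = 1 := by rw [← H.symm, hef, map_one]
  -- a vector off its line, with an isotropic vector in its orthogonal
  obtain ⟨v, hva, ⟨i₀, hi₀, hi₀i, hvi⟩, hv⟩ : ∃ v, H.B v v ≠ 0 ∧
      (∃ i, i ≠ 0 ∧ H.B i i = 0 ∧ H.B v i = 0) ∧ ∀ l : F, m v ≠ l • v := by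
    by_contra hcon
    push Not at hcon
    apply hns
    have hW : ∀ z, H.B e z = 0 → H.B f z = 0 → H.B z z ≠ 0 →
        ∃ l : F, m z = l • z ∧ m e = l • e ∧ m f = l • f := by
      intro z hez hfz hzz
      have hze : H.B z e = 0 := by rw [← H.symm, hez, map_zero]
      have hzf : H.B z f = 0 := by rw [← H.symm, hfz, map_zero]
      obtain ⟨l, hl⟩ := hcon z hzz ⟨e, he, hee, hze⟩
      have key : ∀ i, i ≠ 0 → H.B i i = 0 → H.B z i = 0 → m i = l • i := by
        intro i hi hii hzi
        have hiz : H.B i z = 0 := by rw [← H.symm, hzi, map_zero]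
        obtain ⟨l', hl'⟩ := hcon (z + i)
          (by simpa [H.add_left, H.add_right, hzi, hiz, hii] using hzz)
          ⟨i, hi, hii, by rw [H.add_left, hzi, hii, add_zero]⟩
        rw [map_add, hl] at hl'
        have hmi : m i = (l' - l) • z + l' • i := by rw [sub_smul]; linear_combination (norm := module) hl'
        have h0 := hm i i
        rw [hii, hmi] at h0
        simp only [H.add_left, H.add_right, H.smul_left, H.smul_right, hzi, hiz, hii, mul_zero,
          add_zero, zero_add, ← mul_assoc, mul_eq_zero, or_iff_left hzz, map_eq_zero] at h0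
        rw [hmi, show l' = l from sub_eq_zero.mp (or_self_iff.mp h0), sub_self, zero_smul, zero_add]
      exact ⟨l, hl, key e he hee hze, key f (fun h0 => by
        rw [h0, H.zero_right] at hef; exact zero_ne_one hef) hff hzf⟩
    obtain ⟨z₀, hz₀e, hz₀f, hz₀⟩ : ∃ z, H.B e z = 0 ∧ H.B f z = 0 ∧ H.B z z ≠ 0 := by
      obtain ⟨u, hu, heu, hfu⟩ := h3 e f
      by_contra hno
      push Not at hno
      obtain ⟨y, hy⟩ := H.nondeg u hu
      obtain ⟨u', hu'⟩ : ∃ z₁, z₁ = y - H.B f y • e - H.B e y • f := ⟨_, rfl⟩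
      have hue : H.B u e = 0 := by rw [← H.symm, heu, map_zero]
      have huf : H.B u f = 0 := by rw [← H.symm, hfu, map_zero]
      have huu' : H.B u u' = H.B u y := by
        rw [hu', H.sub_right, H.sub_right, H.smul_right, H.smul_right, hue, huf]; ring
      obtain ⟨t, ht⟩ : ∃ z₁, z₁ = (H.B u u')⁻¹ • u' := ⟨_, rfl⟩
      have h1 : H.B u t = 1 := by rw [ht, H.smul_right, inv_mul_cancel₀ (huu' ▸ hy)]
      have hperp : H.B e t = 0 ∧ H.B f t = 0 := by
        constructor <;>
          · simp only [ht, H.smul_right, hu', H.sub_right, hee, hff, hef, hfe]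
            ring
      have h4 := hno (u + t) (by rw [H.add_right, heu, hperp.1, add_zero])
        (by rw [H.add_right, hfu, hperp.2, add_zero])
      rw [H.add_left, H.add_right, H.add_right, hno u heu hfu, hno t hperp.1 hperp.2,
        h1, ← H.symm u t, h1, map_one] at h4
      exact h2 (by linear_combination h4)
    obtain ⟨l, hlz, hle, hlf⟩ := hW z₀ hz₀e hz₀f hz₀
    refine ⟨l, fun x => ?_⟩
    have hrest : ∀ y, H.B e y = 0 → H.B f y = 0 → m y = l • y := by
      intro y hey hfy
      have hdir : ∀ y, H.B e y = 0 → H.B f y = 0 → H.B y y ≠ 0 → m y = l • y := by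
        intro y hey hfy hyy
        obtain ⟨l', hly, hle', -⟩ := hW y hey hfy hyy
        rw [hly, smul_left_injective F he (hle'.symm.trans hle)]
      by_cases hyy : H.B y y = 0
      swap
      · exact hdir y hey hfy hyy
      obtain ⟨t, ht⟩ : ∃ t : F, H.B (y + t • z₀) (y + t • z₀) ≠ 0 := by
        by_contra hall
        push Not at hall
        have h1 := hall 1
        have h1' := hall (-1)
        simp only [H.add_left, H.add_right, H.smul_left, H.smul_right, hyy, map_one, map_neg,
          one_mul, zero_add, neg_mul, neg_neg, one_smul] at h1 h1'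
        exact mul_ne_zero h2 hz₀ (by linear_combination h1 + h1')
      have h1 := hdir _ (by rw [H.add_right, H.smul_right, hey, hz₀e, mul_zero, add_zero])
        (by rw [H.add_right, H.smul_right, hfy, hz₀f, mul_zero, add_zero]) ht
      rw [map_add, map_smul, hlz] at h1
      linear_combination (norm := module) h1
    have hx : x = H.B f x • e + H.B e x • f + (x - H.B f x • e - H.B e x • f) := by abel
    conv_lhs => rw [hx]
    rw [map_add, map_add, map_smul, map_smul, hle, hlf, hrest _ (by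
      rw [H.sub_right, H.sub_right, H.smul_right, H.smul_right, hee, hef]; ring) (by
      rw [H.sub_right, H.sub_right, H.smul_right, H.smul_right, hff, hfe]; ring)]
    module
  set a := H.B v v with ha
  have hreal : H.σ a = a := H.symm v v
  obtain ⟨w, hw⟩ : ∃ z₁, z₁ = m v := ⟨_, rfl⟩
  have hww : H.B w w = a := by rw [hw]; exact hm v v
  have hrel : H.refl v * H.refl w ∈ N := by
    have h1 := N.mul_mem (hnorm _ (H.refl_mem v) m hmN) (N.inv_mem hmN)
    rw [H.refl_inv, show H.refl v * m * H.refl v * m⁻¹ = H.refl v * (m * H.refl v * m⁻¹) by group,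
      H.refl_conj hm, ← hw] at h1
    exact h1
  set c := H.B v w / a with hc
  have hvw : H.B v w = c * a := by rw [hc, div_mul_cancel₀ _ hva]
  rcases eq_or_ne c 0 with hc0 | hc0
  · exact ⟨v, w, hva, by rwa [hww], by rw [hvw, hc0, zero_mul], hrel⟩
  obtain ⟨p, hp⟩ : ∃ z₁, z₁ = w - c • v := ⟨_, rfl⟩
  have hvp : H.B v p = 0 := by rw [hp, H.sub_right, H.smul_right, ← ha, hvw, sub_self]
  have hpv : H.B p v = 0 := by rw [← H.symm, hvp, map_zero]
  have hp0 : p ≠ 0 := fun h0 => hv c (sub_eq_zero.mp (by rw [← hw, ← hp, h0]))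
  have hwp : w = c • v + p := by rw [hp]; abel
  have hpp : H.B p p = a * (1 - H.σ c * c) := by
    have h1 := hww
    simp only [hwp, H.add_left, H.add_right, H.smul_left, H.smul_right, hvp, hpv, ← ha, mul_zero,
      add_zero, zero_add] at h1
    linear_combination h1
  by_cases hN1 : H.σ c * c = 1
  · refine H.good_of_parabolic h2 N hnorm (x := v) (i := c⁻¹ • p) hva
      (smul_ne_zero (inv_ne_zero hc0) hp0) ?_ (by rw [H.smul_right, hvp, mul_zero]) ?_
    · rw [H.smul_left, H.smul_right, hpp, hN1, sub_self, mul_zero, mul_zero, mul_zero]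
    · rwa [show v + c⁻¹ • p = c⁻¹ • w by
        rw [hwp, smul_add, smul_smul, inv_mul_cancel₀ hc0, one_smul],
        H.refl_smul (inv_ne_zero hc0)]
  -- a pair with real inner product
  obtain ⟨w', hw'⟩ : ∃ z₁, z₁ = c • v - p := ⟨_, rfl⟩
  have hrel' : H.refl w * H.refl w' ∈ N := by
    refine H.rel_trans N (H.rel_symm N hrel) ?_
    have h1 := H.rel_move N hnorm (H.refl_mem v) hrel
    rw [H.refl_self hva, H.refl_neg] at h1
    rwa [show H.refl v w = -w' by
      rw [hw', hwp, map_add, map_smul, H.refl_self hva, H.refl_fix hvp]; module,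
      H.refl_neg] at h1
  set c₂ := 2 * (H.σ c * c) - 1 with hc₂
  have hc₂r : H.σ c₂ = c₂ := by
    rw [hc₂, map_sub, map_mul, map_mul, H.invol, map_ofNat, map_one]; ring
  have hww' : H.B w w' = c₂ * a := by
    simp only [hw', hwp, H.add_left, H.sub_right, H.smul_left, H.smul_right, hvp, hpv, hpp, ← ha,
      hc₂]
    ring
  have hw'w' : H.B w' w' = a := by
    simp only [hw', H.sub_left, H.sub_right, H.smul_left, H.smul_right, hvp, hpv, hpp, ← ha]
    ring
  rcases eq_or_ne c₂ 0 with hc20 | hc20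
  · exact ⟨w, w', by rwa [hww], by rwa [hw'w'], by rw [hww', hc20, zero_mul], hrel'⟩
  have hc21 : 1 - c₂ ≠ 0 := fun h0 => by
    rw [hc₂] at h0
    exact hN1 (mul_left_cancel₀ h2 (by linear_combination -h0))
  have hc22 : 1 + c₂ ≠ 0 := fun h0 => by
    rw [hc₂] at h0
    exact mul_ne_zero ((map_ne_zero H.σ).mpr hc0) hc0 (mul_left_cancel₀ h2 (by linear_combination h0))
  obtain ⟨p₂, hp₂⟩ : ∃ z₁, z₁ = w' - c₂ • w := ⟨_, rfl⟩
  have hwp₂ : H.B w p₂ = 0 := by rw [hp₂, H.sub_right, H.smul_right, hww, hww', sub_self]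
  have hp₂w : H.B p₂ w = 0 := by rw [← H.symm, hwp₂, map_zero]
  set b := a * (1 - c₂ * c₂) with hb
  have hp₂p₂ : H.B p₂ p₂ = b := by
    have h1 := hw'w'
    rw [show w' = c₂ • w + p₂ by rw [hp₂]; abel] at h1
    simp only [H.add_left, H.add_right, H.smul_left, H.smul_right, hwp₂, hp₂w, hww, mul_zero,
      add_zero, zero_add, hc₂r] at h1
    rw [hb]; linear_combination h1
  have hb0 : b ≠ 0 := by
    rw [hb, show 1 - c₂ * c₂ = (1 - c₂) * (1 + c₂) by ring]
    exact mul_ne_zero hva (mul_ne_zero hc21 hc22)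
  have hbr : H.σ b = b := by rw [← hp₂p₂]; exact H.symm _ _
  -- a hyperbolic pair orthogonal to `w`
  obtain ⟨E, hE⟩ : ∃ z₁, z₁ = m i₀ := ⟨_, rfl⟩
  have hE0 : E ≠ 0 := fun h0 => hi₀ (m.injective (by rw [map_zero, ← hE, h0]))
  have hEE : H.B E E = 0 := by rw [hE, hm]; exact hi₀i
  have hwE : H.B w E = 0 := by rw [hw, hE, hm]; exact hvi
  have hEw : H.B E w = 0 := by rw [← H.symm, hwE, map_zero]
  obtain ⟨G, hGG, hEG, hwG⟩ := H.exists_partner_perp h2 (hww ▸ hva) hE0 hEE hwE
  have hGE : H.B G E = 1 := by rw [← H.symm, hEG, map_one]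
  have hGw : H.B G w = 0 := by rw [← H.symm, hwG, map_zero]
  let P : F → V := fun s => s • E + (b / (2 * s)) • G
  have hwP : ∀ s, H.B w (P s) = 0 := fun s => by
    simp only [P, H.add_right, H.smul_right, hwE, hwG, mul_zero, add_zero]
  have hPw : ∀ s, H.B (P s) w = 0 := fun s => by rw [← H.symm, hwP, map_zero]
  have hPP : ∀ s u, H.σ s = s → H.B (P s) (P u) = s * (b / (2 * u)) + b / (2 * s) * u :=
    fun s u hs => by
      simp only [P, H.add_left, H.add_right, H.smul_left, H.smul_right, hEE, hGG, hEG, hGE, hs,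
        map_div₀, map_mul, map_ofNat, hbr, mul_zero, mul_one, zero_add, add_zero]
  have hP1 : H.B (P 1) (P 1) = b := by rw [hPP 1 1 (map_one _)]; field_simp; ring
  obtain ⟨p₁, hp₁, hp₁p⟩ : ∃ p₁, (p₁ = P 1 ∨ p₁ = -P 1) ∧ H.B (p₁ - p₂) p₂ ≠ 0 := by
    by_cases h0 : H.B (P 1 - p₂) p₂ = 0
    · refine ⟨-P 1, Or.inr rfl, fun h1 => hb0 ?_⟩
      rw [H.sub_left, hp₂p₂] at h0
      rw [H.sub_left, H.neg_left, hp₂p₂] at h1
      exact mul_left_cancel₀ h2 (by linear_combination -h0 - h1)
    · exact ⟨P 1, Or.inl rfl, h0⟩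
  obtain ⟨g, hg, hgp, hgfix⟩ := H.exists_move (p := p₂) (p' := p₁)
    (by rcases hp₁ with rfl | rfl <;> simp only [H.neg_left, H.neg_right, neg_neg, hP1, hp₂p₂])
    hp₁p
  have hgw : g w = w := hgfix w (by
    rcases hp₁ with rfl | rfl <;> simp only [H.sub_left, H.neg_left, hPw, hp₂w, neg_zero, sub_zero])
  obtain ⟨c₃, hc₃, hrel₁⟩ : ∃ c₃ : F, (c₃ = c₂ ∨ c₃ = -c₂) ∧
      H.refl w * H.refl (c₃ • w + P 1) ∈ N := by
    have h1 := H.rel_move N hnorm hg hrel'
    rw [show g w' = c₂ • w + p₁ by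
      rw [show w' = c₂ • w + p₂ by rw [hp₂]; abel, map_add, map_smul, hgw, hgp], hgw] at h1
    rcases hp₁ with rfl | rfl
    · exact ⟨c₂, Or.inl rfl, h1⟩
    · refine ⟨-c₂, Or.inr rfl, ?_⟩
      rwa [show (-c₂) • w + P 1 = -(c₂ • w + -P 1) by module, H.refl_neg]
  have hc30 : c₃ ≠ 0 := by rcases hc₃ with rfl | rfl <;> simp [hc20]
  have hc3r : H.σ c₃ = c₃ := by rcases hc₃ with rfl | rfl <;> simp [hc₂r]
  have hc31 : 1 - c₃ ≠ 0 := by
    rcases hc₃ with rfl | rfl
    · exact hc21
    · rwa [sub_neg_eq_add]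
  have hc32 : 1 + c₃ ≠ 0 := by
    rcases hc₃ with rfl | rfl
    · exact hc22
    · rwa [← sub_eq_add_neg]
  have hb3 : b = a * (1 - c₃ * c₃) := by rcases hc₃ with rfl | rfl <;> rw [hb] <;> ring
  set s := -(1 - c₃) / (1 + c₃) with hs
  have hs0 : s ≠ 0 := by rw [hs]; exact div_ne_zero (neg_ne_zero.mpr hc31) hc32
  have hsr : H.σ s = s := by rw [hs, map_div₀, map_neg, map_sub, map_add, map_one, hc3r]
  have hPs : H.B (P s) (P s) = b := by rw [hPP s s hsr]; field_simp; ring
  have hcross : H.B (P 1) (P s) = -a * (1 + c₃ * c₃) := by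
    rw [hPP 1 s (map_one _), hb3, hs]
    field_simp
    ring
  obtain ⟨g₂, hg₂, hg₂p, hg₂fix⟩ := H.exists_move (p := P 1) (p' := P s) (by rw [hPs, hP1]) (by
    rw [H.sub_left, hP1, ← H.symm (P 1) (P s), hcross, map_mul, map_neg, hreal, map_add, map_one,
      map_mul, hc3r, hb3]
    intro h0
    exact mul_ne_zero h2 hva (by linear_combination -h0))
  have hg₂w : g₂ w = w := hg₂fix w (by rw [H.sub_left, hPw, hPw, sub_self])
  have hrel₂ := H.rel_move N hnorm hg₂ hrel₁
  rw [map_add, map_smul, hg₂w, hg₂p] at hrel₂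
  obtain ⟨y₁, hy₁⟩ : ∃ z₁, z₁ = c₃ • w + P 1 := ⟨_, rfl⟩
  obtain ⟨y₂, hy₂⟩ : ∃ z₁, z₁ = c₃ • w + P s := ⟨_, rfl⟩
  rw [← hy₁] at hrel₁
  rw [← hy₂] at hrel₂
  have e11 : H.B y₁ y₁ = a := by
    simp only [hy₁, H.add_left, H.add_right, H.smul_left, H.smul_right, hwP, hPw, hww, hP1, hb3,
      hc3r]
    ring
  have e22 : H.B y₂ y₂ = a := by
    simp only [hy₂, H.add_left, H.add_right, H.smul_left, H.smul_right, hwP, hPw, hww, hPs, hb3,
      hc3r]
    ring
  have e12 : H.B y₁ y₂ = -a := by
    simp only [hy₁, hy₂, H.add_left, H.add_right, H.smul_left, H.smul_right, hwP, hPw, hww, hcross,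
      hc3r]
    ring
  have e21 : H.B y₂ y₁ = -a := by rw [← H.symm, e12, map_neg, hreal]
  refine H.good_of_parabolic h2 N hnorm (x := y₁) (i := -y₂ - y₁) (e11 ▸ hva) (fun h0 => ?_) ?_ ?_ ?_
  · have h1 := congrArg (H.B w) h0
    simp only [hy₁, hy₂, H.sub_right, H.neg_right, H.add_right, H.smul_right, hwP, hww,
      H.zero_right] at h1
    exact mul_ne_zero (mul_ne_zero h2 hc30) hva (by linear_combination -h1)
  · rw [H.sub_left, H.sub_right, H.sub_right, H.neg_left, H.neg_left, H.neg_right, H.neg_right,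
      e11, e22, e12, e21]
    ring
  · rw [H.sub_right, H.neg_right, e11, e12]; ring
  · rw [add_sub_cancel, H.refl_neg]
    exact H.rel_trans N (H.rel_symm N hrel₁) hrel₂

include h2 in
/-- The involution obtained from a good configuration. -/
theorem exists_involution (hG : H.Good N)
    (h3 : ∀ a b : V, ∃ z, z ≠ 0 ∧ H.B a z = 0 ∧ H.B b z = 0) :
    ∃ d ∈ N, d * d = 1 ∧ d ∈ H.Iso ∧ ¬ IsScalar d := by
  obtain ⟨x, y, hx, hy, hxy, hmem⟩ := hG
  have hyx : H.B y x = 0 := by rw [← H.symm, hxy, map_zero]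
  have hcomm : H.refl x * H.refl y = H.refl y * H.refl x := by
    rw [← mul_inv_eq_iff_eq_mul, H.refl_conj (H.refl_mem x), H.refl_fix hxy]
  refine ⟨_, hmem, ?_, H.Iso.mul_mem (H.refl_mem x) (H.refl_mem y), ?_⟩
  · conv_lhs => arg 2; rw [hcomm]
    rw [mul_assoc, ← mul_assoc (H.refl y), H.refl_mul_self, one_mul, H.refl_mul_self]
  rintro ⟨l, hl⟩
  obtain ⟨z, hz, hxz, hyz⟩ := h3 x y
  have h1 : (H.refl x * H.refl y) z = z := by
    change H.refl x (H.refl y z) = z
    rw [H.refl_fix hyz, H.refl_fix hxz]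
  have hl1 : l = 1 := smul_left_injective F hz (by
    change l • z = (1 : F) • z
    rw [one_smul, ← hl, h1])
  have h4 := hl x
  rw [show (H.refl x * H.refl y) x = H.refl x (H.refl y x) from rfl, H.refl_fix hyx,
    H.refl_self hx, hl1, one_smul] at h4
  have hx0 : x ≠ 0 := fun h0 => hx (by rw [h0, H.zero_left])
  have h5 : (2 : F) • x = 0 := by rw [two_smul]; nth_rewrite 1 [← h4]; exact neg_add_cancel x
  exact (smul_eq_zero.mp h5).elim h2 hx0

include h2 in
/-- A semilinear bijection commuting projectively with the products of two reflections fixes the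
isotropic lines. -/
theorem fix_isotropic (τ : F →+* F) (φ : V → V) (hφb : Function.Bijective φ)
    (hadd : ∀ u v, φ (u + v) = φ u + φ v) (hsmul : ∀ (c : F) u, φ (c • u) = τ c • φ u)
    (hcomm : ∀ x y, H.B x x ≠ 0 → H.B y y ≠ 0 →
      ∃ k : F, ∀ u, φ (H.refl x (H.refl y u)) = k • H.refl x (H.refl y (φ u)))
    {x i : V} (hx : H.B x x ≠ 0) (hii : H.B i i = 0) (hxi : H.B x i = 0) (hi : i ≠ 0) :
    ∃ l : F, φ i = l • i := by
  have hix : H.B i x = 0 := by rw [← H.symm, hxi, map_zero]
  set a := H.B x x with ha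
  have hxi2 : H.B (x + i) (x + i) = a := by
    rw [H.add_left, H.add_right, H.add_right, hxi, hix, hii]; ring
  have hd : ∀ w, H.refl x (H.refl (x + i) w) =
      w + (2 * H.B i w / a) • x + (-2 * (H.B x w + H.B i w) / a) • i := fun w => by
    rw [H.refl_apply (x + i), hxi2, map_add, map_smul, map_add, H.refl_self hx, H.refl_fix hxi,
      H.refl_apply x w, H.add_left, ← ha]
    match_scalars <;> field_simp <;> ring
  obtain ⟨k, hk⟩ := hcomm x (x + i) hx (by rwa [hxi2])
  have hdi : H.refl x (H.refl (x + i) i) = i := by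
    rw [hd, hii, hxi]; simp
  have h0 : φ 0 = 0 := by have := hadd 0 0; rw [add_zero] at this; exact left_eq_add.mp this
  have hw0 : φ i ≠ 0 := fun h => hi (hφb.1 (h.trans h0.symm))
  have heig := hk i
  rw [hdi, hd] at heig
  -- the eigenvalue is one
  obtain ⟨w, hw⟩ : ∃ z₁, z₁ = φ i := ⟨_, rfl⟩
  rw [← hw] at heig hw0 ⊢
  set α := 2 * H.B i w / a with hα
  set β := -2 * (H.B x w + H.B i w) / a with hβ
  have hk0 : k ≠ 0 := fun h => hw0 (by rw [heig, h, zero_smul])
  have hk1 : k = 1 := by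
    by_contra hne
    have hl : k⁻¹ - 1 ≠ 0 := sub_ne_zero.mpr fun h => hne (inv_eq_one.mp h)
    have hweq : w = ((k⁻¹ - 1)⁻¹ * α) • x + ((k⁻¹ - 1)⁻¹ * β) • i := by
      have h1 : (k⁻¹ - 1) • w = α • x + β • i := by
        have h2' := congrArg (fun z => k⁻¹ • z) heig
        simp only [smul_smul, inv_mul_cancel₀ hk0, one_smul] at h2'
        linear_combination (norm := module) h2'
      rw [mul_smul, mul_smul, ← smul_add, ← h1, smul_smul, inv_mul_cancel₀ hl, one_smul]
    have hiw : H.B i w = 0 := by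
      rw [hweq, H.add_right, H.smul_right, H.smul_right, hix, hii]; ring
    have hα0 : α = 0 := by rw [hα, hiw]; simp
    have hxw : H.B x w = 0 := by
      rw [hweq, H.add_right, H.smul_right, H.smul_right, hxi, hα0]; ring
    have hβ0 : β = 0 := by rw [hβ, hiw, hxw]; simp
    exact hw0 (by rw [hweq, hα0, hβ0]; simp)
  rw [hk1, one_smul] at heig
  have hzero : α • x + β • i = 0 := by linear_combination (norm := module) (-1 : F) • heig
  have hα0 : α = 0 := by
    have h1 := congrArg (H.B x) hzero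
    rw [H.add_right, H.smul_right, H.smul_right, hxi, H.zero_right, mul_zero, add_zero, ← ha] at h1
    exact (mul_eq_zero.mp h1).resolve_right hx
  have hiw : H.B i w = 0 := by
    have := div_eq_zero_iff.mp hα0
    simpa [h2, hx] using this
  have hxw : H.B x w = 0 := by
    have h1 : β • i = 0 := by simpa [hα0] using hzero
    have := div_eq_zero_iff.mp ((smul_eq_zero.mp h1).resolve_right hi)
    simpa [h2, hx, hiw] using this
  -- the image of `x - d x`
  have hkx := hk x
  rw [hk1, one_smul, hd, hd, hix, ← ha] at hkx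
  have hstep : φ ((-2 : F) • i) = (2 * H.B i (φ x) / a) • x +
      (-2 * (H.B x (φ x) + H.B i (φ x)) / a) • i := by
    have h1 : x + (2 * 0 / a) • x + (-2 * (a + 0) / a) • i = x + (-2 : F) • i := by
      match_scalars <;> field_simp <;> ring
    rw [h1, hadd] at hkx
    linear_combination (norm := module) hkx
  rw [hsmul, ← hw] at hstep
  have hτ2 : τ (-2) ≠ 0 := (map_ne_zero τ).mpr (neg_ne_zero.mpr h2)
  have hη : 2 * H.B i (φ x) / a = 0 := by
    have h1 := congrArg (H.B x) hstep
    rw [H.add_right, H.smul_right, H.smul_right, H.smul_right, hxw, hxi, ← ha, mul_zero, mul_zero,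
      add_zero] at h1
    exact (mul_eq_zero.mp h1.symm).resolve_right hx
  rw [hη, zero_smul, zero_add] at hstep
  exact ⟨(τ (-2))⁻¹ * (-2 * (H.B x (φ x) + H.B i (φ x)) / a), by
    rw [mul_smul, ← hstep, smul_smul, inv_mul_cancel₀ hτ2, one_smul]⟩

include h2 in
/-- Only scalars commute projectively with all products of two reflections. -/
theorem semilinear_trivial (τ : F →+* F) (φ : V → V) (hφb : Function.Bijective φ)
    (hadd : ∀ u v, φ (u + v) = φ u + φ v) (hsmul : ∀ (c : F) u, φ (c • u) = τ c • φ u)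
    (hcomm : ∀ x y, H.B x x ≠ 0 → H.B y y ≠ 0 →
      ∃ k : F, ∀ u, φ (H.refl x (H.refl y u)) = k • H.refl x (H.refl y (φ u)))
    {e : V} (he : e ≠ 0) (hee : H.B e e = 0)
    (h3 : ∀ a b : V, ∃ z, z ≠ 0 ∧ H.B a z = 0 ∧ H.B b z = 0) :
    (∀ c, τ c = c) ∧ ∃ l : F, ∀ u, φ u = l • u := by
  obtain ⟨f, hff, hef⟩ := H.exists_partner h2 he hee
  have hfe : H.B f e = 1 := by rw [← H.symm, hef, map_one]
  have hf : f ≠ 0 := fun h0 => by rw [h0, H.zero_right] at hef; exact zero_ne_one hef
  have h0 : φ 0 = 0 := by have := hadd 0 0; rw [add_zero] at this; exact left_eq_add.mp this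
  -- isotropic lines
  have hiso : ∀ i, i ≠ 0 → H.B i i = 0 → ∃ l : F, φ i = l • i := by
    intro i hi hii
    obtain ⟨j, hjj, hij⟩ := H.exists_partner h2 hi hii
    obtain ⟨u, hu, hiu, hju⟩ := h3 i j
    by_cases huu : H.B u u = 0
    swap
    · exact H.fix_isotropic h2 τ φ hφb hadd hsmul hcomm huu hii
        (by rw [← H.symm, hiu, map_zero]) hi
    obtain ⟨y, hy⟩ := H.nondeg u hu
    obtain ⟨y', hy'⟩ : ∃ z₁, z₁ = y - H.B j y • i - H.B i y • j := ⟨_, rfl⟩
    have hji : H.B j i = 1 := by rw [← H.symm, hij, map_one]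
    have hiy : H.B i y' = 0 := by
      rw [hy', H.sub_right, H.sub_right, H.smul_right, H.smul_right, hii, hij]; ring
    have huy : H.B u y' = H.B u y := by
      rw [hy', H.sub_right, H.sub_right, H.smul_right, H.smul_right,
        show H.B u i = 0 by rw [← H.symm, hiu, map_zero],
        show H.B u j = 0 by rw [← H.symm, hju, map_zero]]
      ring
    obtain ⟨t, ht⟩ : ∃ z₁, z₁ = (H.B u y')⁻¹ • y' := ⟨_, rfl⟩
    have hut : H.B u t = 1 := by rw [ht, H.smul_right, inv_mul_cancel₀ (huy ▸ hy)]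
    have hit : H.B i t = 0 := by rw [ht, H.smul_right, hiy, mul_zero]
    obtain ⟨x, hx, hix⟩ : ∃ x, H.B x x ≠ 0 ∧ H.B i x = 0 := by
      by_cases htt : H.B t t = 0
      · refine ⟨u + t, ?_, by rw [H.add_right, hiu, hit, add_zero]⟩
        rw [H.add_left, H.add_right, H.add_right, huu, htt, hut, ← H.symm u t, hut, map_one]
        simpa [← two_mul, one_add_one_eq_two] using h2
      · exact ⟨t, htt, hit⟩
    exact H.fix_isotropic h2 τ φ hφb hadd hsmul hcomm hx hii (by rw [← H.symm, hix, map_zero]) hi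
  obtain ⟨α, hα⟩ := hiso e he hee
  obtain ⟨γ, hγ⟩ := hiso f hf hff
  have hW : ∀ z, H.B e z = 0 → H.B f z = 0 → H.B z z ≠ 0 →
      φ z = α • z ∧ γ = α ∧ ∀ c, H.σ c = c → τ c = c := by
    intro z hez hfz hzz
    have hze : H.B z e = 0 := by rw [← H.symm, hez, map_zero]
    have hzf : H.B z f = 0 := by rw [← H.symm, hfz, map_zero]
    set Q := H.B z z with hQ
    have hQr : H.σ Q = Q := H.symm z z
    have key : ∀ t : F, ∃ l : F, α • e + τ t • φ z + (τ (-(t * H.σ t * Q) / 2) * γ) • f =
        l • e + (l * t) • z + (l * (-(t * H.σ t * Q) / 2)) • f := by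
      intro t
      set i := e + t • z + (-(t * H.σ t * Q) / 2) • f with hi
      have hii : H.B i i = 0 := by
        simp only [hi, H.add_left, H.add_right, H.smul_left, H.smul_right, hee, hff, hef, hfe, hez,
          hze, hfz, hzf, ← hQ, map_div₀, map_neg, map_mul, H.invol, hQr, map_ofNat, mul_zero,
          add_zero, zero_add, mul_one]
        field_simp
        ring
      have hi0 : i ≠ 0 := fun h => by
        have h1 := congrArg (H.B f) h
        simp only [hi, H.add_right, H.smul_right, hfe, hfz, hff, H.zero_right, mul_zero,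
          add_zero] at h1
        exact one_ne_zero h1
      obtain ⟨l, hl⟩ := hiso i hi0 hii
      refine ⟨l, ?_⟩
      simp only [hi, hadd, hsmul, hα, hγ, smul_add, smul_smul] at hl
      exact hl
    obtain ⟨l, hl⟩ := key 1
    obtain ⟨l', hl'⟩ := key (-1)
    simp only [map_one, one_mul, mul_one, map_neg, neg_mul, mul_neg, neg_neg, one_smul,
      neg_smul] at hl hl'
    have hsum : (2 * α - l - l') • e + (l' - l) • z +
        (2 * (τ (-Q / 2) * γ) - (l + l') * (-Q / 2)) • f = 0 := by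
      linear_combination (norm := module) hl + hl'
    have c1 := congrArg (H.B f) hsum
    have c2 := congrArg (H.B z) hsum
    have c3 := congrArg (H.B e) hsum
    simp only [H.add_right, H.smul_right, H.zero_right, hee, hff, hef, hfe, hez, hze, hfz, hzf,
      ← hQ, mul_zero, add_zero, zero_add, mul_one] at c1 c2 c3
    have e2 : l' = l := sub_eq_zero.mp ((mul_eq_zero.mp c2).resolve_right hzz)
    have e1 : l = α := by
      rw [e2] at c1; exact mul_left_cancel₀ h2 (by linear_combination -c1)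
    have hz : φ z = α • z := by
      rw [e1] at hl
      have e3 : τ (-Q / 2) * γ = α * (-Q / 2) := by
        rw [e2, e1] at c3
        exact mul_left_cancel₀ h2 (by linear_combination c3)
      rw [e3] at hl
      linear_combination (norm := module) hl
    have hall : ∀ t, τ t = t ∧ τ (-(t * H.σ t * Q) / 2) * γ = α * (-(t * H.σ t * Q) / 2) := by
      intro t
      obtain ⟨l, hl⟩ := key t
      rw [hz] at hl
      have hd : (α - l) • e + (τ t * α - l * t) • z +
          (τ (-(t * H.σ t * Q) / 2) * γ - l * (-(t * H.σ t * Q) / 2)) • f = 0 := by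
        linear_combination (norm := module) hl
      have d1 := congrArg (H.B f) hd
      have d2 := congrArg (H.B z) hd
      have d3 := congrArg (H.B e) hd
      simp only [H.add_right, H.smul_right, H.zero_right, hee, hff, hef, hfe, hez, hze, hfz, hzf,
        ← hQ, mul_zero, add_zero, zero_add, mul_one] at d1 d2 d3
      have hlα : l = α := (sub_eq_zero.mp d1).symm
      have hα0 : α ≠ 0 := fun h => he (hφb.1 (by rw [hα, h, zero_smul, h0]))
      rw [hlα] at d2 d3
      exact ⟨mul_left_cancel₀ hα0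
        (by linear_combination (mul_eq_zero.mp d2).resolve_right hzz), by linear_combination d3⟩
    refine ⟨hz, ?_, fun c _ => (hall c).1⟩
    have h4 := (hall 1).2
    rw [(hall _).1, map_one, one_mul, one_mul] at h4
    exact mul_left_cancel₀ (div_ne_zero (neg_ne_zero.mpr hzz) h2) (by linear_combination h4)
  obtain ⟨z₀, hz₀e, hz₀f, hz₀⟩ : ∃ z, H.B e z = 0 ∧ H.B f z = 0 ∧ H.B z z ≠ 0 := by
    obtain ⟨u, hu, heu, hfu⟩ := h3 e f
    by_contra hno
    push Not at hno
    obtain ⟨y, hy⟩ := H.nondeg u hu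
    obtain ⟨u', hu'⟩ : ∃ z₁, z₁ = y - H.B f y • e - H.B e y • f := ⟨_, rfl⟩
    have huu' : H.B u u' = H.B u y := by
      rw [hu', H.sub_right, H.sub_right, H.smul_right, H.smul_right,
        show H.B u e = 0 by rw [← H.symm, heu, map_zero],
        show H.B u f = 0 by rw [← H.symm, hfu, map_zero]]
      ring
    obtain ⟨t, ht⟩ : ∃ z₁, z₁ = (H.B u u')⁻¹ • u' := ⟨_, rfl⟩
    have h1 : H.B u t = 1 := by rw [ht, H.smul_right, inv_mul_cancel₀ (huu' ▸ hy)]
    have hperp : H.B e t = 0 ∧ H.B f t = 0 := by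
      constructor <;>
        · simp only [ht, H.smul_right, hu', H.sub_right, hee, hff, hef, hfe]
          ring
    have h4 := hno (u + t) (by rw [H.add_right, heu, hperp.1, add_zero])
      (by rw [H.add_right, hfu, hperp.2, add_zero])
    rw [H.add_left, H.add_right, H.add_right, hno u heu hfu, hno t hperp.1 hperp.2,
      h1, ← H.symm u t, h1, map_one] at h4
    exact h2 (by linear_combination h4)
  obtain ⟨hz₀α, hγα, -⟩ := hW z₀ hz₀e hz₀f hz₀
  have hτ : ∀ c, τ c = c := by
    intro c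
    have hz0 : z₀ ≠ 0 := fun h => hz₀ (by rw [h, H.zero_left])
    obtain ⟨l, hl⟩ := hiso (e + c • z₀ + (-(c * H.σ c * H.B z₀ z₀) / 2) • f) (fun h => by
      have h1 := congrArg (H.B f) h
      simp [H.add_right, H.smul_right, hfe, hz₀f, hff, H.zero_right] at h1) (by
      simp only [H.add_left, H.add_right, H.smul_left, H.smul_right, hee, hff, hef, hfe, hz₀e,
        hz₀f, show H.B z₀ e = 0 by rw [← H.symm, hz₀e, map_zero],
        show H.B z₀ f = 0 by rw [← H.symm, hz₀f, map_zero], map_div₀, map_neg, map_mul, H.invol,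
        H.symm, map_ofNat, mul_zero, add_zero, zero_add, mul_one]
      field_simp
      ring)
    simp only [hadd, hsmul, hα, hz₀α, hγ, smul_add, smul_smul] at hl
    have d1 := congrArg (H.B f) hl
    have d2 := congrArg (H.B z₀) hl
    simp only [H.add_right, H.smul_right, hfe, hz₀f, hff,
      show H.B z₀ e = 0 by rw [← H.symm, hz₀e, map_zero],
      show H.B z₀ f = 0 by rw [← H.symm, hz₀f, map_zero], mul_zero, add_zero, zero_add,
      mul_one] at d1 d2
    have hα0 : α ≠ 0 := fun h => he (hφb.1 (by rw [hα, h, zero_smul, h0]))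
    rw [← d1] at d2
    exact mul_left_cancel₀ hα0 (by linear_combination mul_right_cancel₀ hz₀ d2)
  refine ⟨hτ, α, fun x => ?_⟩
  have hrest : ∀ y, H.B e y = 0 → H.B f y = 0 → φ y = α • y := by
    intro y hey hfy
    by_cases hyy : H.B y y = 0
    swap
    · exact (hW y hey hfy hyy).1
    obtain ⟨t, ht⟩ : ∃ t : F, H.B (y + t • z₀) (y + t • z₀) ≠ 0 := by
      by_contra hall
      push Not at hall
      have h1 := hall 1
      have h1' := hall (-1)
      simp only [H.add_left, H.add_right, H.smul_left, H.smul_right, hyy, map_one, map_neg,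
        one_mul, zero_add, neg_mul, neg_neg, one_smul] at h1 h1'
      exact mul_ne_zero h2 hz₀ (by linear_combination h1 + h1')
    have h1 := (hW _ (by rw [H.add_right, H.smul_right, hey, hz₀e, mul_zero, add_zero])
      (by rw [H.add_right, H.smul_right, hfy, hz₀f, mul_zero, add_zero]) ht).1
    rw [hadd, hsmul, hτ, hz₀α] at h1
    linear_combination (norm := module) h1
  have hx : x = H.B f x • e + H.B e x • f + (x - H.B f x • e - H.B e x • f) := by abel
  conv_lhs => rw [hx]
  rw [hadd, hadd, hsmul, hsmul, hτ, hτ, hα, hγ, hγα, hrest _ (by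
    rw [H.sub_right, H.sub_right, H.smul_right, H.smul_right, hee, hef]; ring) (by
    rw [H.sub_right, H.sub_right, H.smul_right, H.smul_right, hff, hfe]; ring)]
  module

end Main

end Herm

end Cfsg.Agent.Small.Forms
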