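import Mathlib
import Cfsg.Agent.Lib.Small.Forms.Reflection

/-!
Transvections of a non-degenerate alternating form in odd characteristic: a non-scalar group of
isometries normalised by the isometry group contains a non-scalar element of order two, and only
scalars commute projectively with all transvections.
-/

set_option autoImplicit false
set_option linter.unusedSectionVars false

namespace Cfsg.Agent.Small.Forms

/-- A non-degenerate alternating form. -/
structure Alt (F : Type*) [Field F] (V : Type*) [AddCommGroup V] [Module F V] where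
  B : V → V → F
  add_right : ∀ u v w, B u (v + w) = B u v + B u w
  smul_right : ∀ (c : F) (u v), B u (c • v) = c * B u v
  swap : ∀ u v, B u v = -B v u
  self : ∀ u, B u u = 0
  nondeg : ∀ u, u ≠ 0 → ∃ v, B u v ≠ 0

namespace Alt

variable {F : Type*} [Field F] {V : Type*} [AddCommGroup V] [Module F V] (H : Alt F V)

theorem add_left (u v w : V) : H.B (u + v) w = H.B u w + H.B v w := by
  rw [H.swap, H.add_right, H.swap w u, H.swap w v]; ring

theorem smul_left (c : F) (u v : V) : H.B (c • u) v = c * H.B u v := by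
  rw [H.swap, H.smul_right, H.swap v u]; ring

theorem zero_right (u : V) : H.B u 0 = 0 := by
  rw [← zero_smul F (0 : V), H.smul_right, zero_mul]

theorem sub_right (u v w : V) : H.B u (v - w) = H.B u v - H.B u w := by
  rw [sub_eq_add_neg, ← neg_one_smul F w, H.add_right, H.smul_right]; ring

/-- The isometry group. -/
def Iso : Subgroup (V ≃ₗ[F] V) where
  carrier := {g | ∀ u v, H.B (g u) (g v) = H.B u v}
  one_mem' _ _ := rfl
  mul_mem' {g h} hg hh u v := (hg _ _).trans (hh u v)
  inv_mem' {g} hg u v := by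
    conv_rhs => rw [← g.apply_symm_apply u, ← g.apply_symm_apply v, hg]
    rfl

/-- `x ↦ x + t B(v,x) v`. -/
def lin (v : V) (t : F) : V →ₗ[F] V where
  toFun x := x + (t * H.B v x) • v
  map_add' x y := by rw [H.add_right]; module
  map_smul' c x := by rw [H.smul_right, RingHom.id_apply]; module

theorem lin_comp (v : V) (s t : F) (x : V) : H.lin v s (H.lin v t x) = H.lin v (s + t) x := by
  change x + (t * H.B v x) • v + (s * H.B v (x + (t * H.B v x) • v)) • v = x + ((s + t) * H.B v x) • v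
  rw [H.add_right, H.smul_right, H.self]
  module

theorem lin_zero (v x : V) : H.lin v 0 x = x := by
  change x + (0 * H.B v x) • v = x
  rw [zero_mul, zero_smul, add_zero]

/-- A transvection. -/
def tv (v : V) (t : F) : V ≃ₗ[F] V :=
  LinearEquiv.ofLinear (H.lin v t) (H.lin v (-t))
    (LinearMap.ext fun x => by
      rw [LinearMap.comp_apply, H.lin_comp, add_neg_cancel, H.lin_zero, LinearMap.id_apply])
    (LinearMap.ext fun x => by
      rw [LinearMap.comp_apply, H.lin_comp, neg_add_cancel, H.lin_zero, LinearMap.id_apply])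

theorem tv_apply (v : V) (t : F) (x : V) : H.tv v t x = x + (t * H.B v x) • v := rfl

theorem tv_mem (v : V) (t : F) : H.tv v t ∈ H.Iso := fun x y => by
  simp only [H.tv_apply, H.add_left, H.add_right, H.smul_left, H.smul_right, H.self]
  rw [H.swap x v]
  ring

theorem tv_mul (v : V) (s t : F) : H.tv v s * H.tv v t = H.tv v (s + t) :=
  LinearEquiv.ext fun x => H.lin_comp v s t x

theorem tv_zero (v : V) : H.tv v 0 = 1 := LinearEquiv.ext fun x => H.lin_zero v x

theorem tv_pow (v : V) (t : F) : ∀ k : ℕ, H.tv v t ^ k = H.tv v ((k : F) * t)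
  | 0 => by rw [pow_zero, Nat.cast_zero, zero_mul, H.tv_zero]
  | k + 1 => by rw [pow_succ, tv_pow v t k, H.tv_mul, Nat.cast_succ, add_mul, one_mul]

theorem tv_conj {g : V ≃ₗ[F] V} (hg : g ∈ H.Iso) (v : V) (t : F) :
    g * H.tv v t * g⁻¹ = H.tv (g v) t := by
  rw [mul_inv_eq_iff_eq_mul]
  refine LinearEquiv.ext fun x => ?_
  change g (H.tv v t x) = H.tv (g v) t (g x)
  rw [H.tv_apply, H.tv_apply, hg, map_add, map_smul]

theorem eq_smul_of_perp {v w : V} (hw : w ≠ 0)
    (h : ∀ u, H.B w u = 0 → H.B v u = 0) : ∃ l : F, v = l • w := by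
  obtain ⟨y, hy⟩ := H.nondeg w hw
  refine ⟨H.B v y / H.B w y, ?_⟩
  by_contra hne
  obtain ⟨u, hu⟩ := H.nondeg _ (sub_ne_zero.mpr hne)
  apply hu
  have h1 := h (u - (H.B w u / H.B w y) • y) (by
    rw [H.sub_right, H.smul_right, div_mul_cancel₀ _ hy, sub_self])
  rw [H.sub_right, H.smul_right] at h1
  rw [sub_eq_add_neg, ← neg_one_smul F ((H.B v y / H.B w y) • w), H.add_left, H.smul_left,
    H.smul_left]
  linear_combination h1

include H in
theorem scalar_of_lines (τ : F →+* F) (φ : V → V)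
    (hadd : ∀ u v, φ (u + v) = φ u + φ v) (hsmul : ∀ (c : F) u, φ (c • u) = τ c • φ u)
    (hinj : Function.Injective φ) {e : V} (he : e ≠ 0)
    (hline : ∀ v, ∃ l : F, φ v = l • v) :
    (∀ c, τ c = c) ∧ ∃ l : F, ∀ u, φ u = l • u := by
  obtain ⟨u, hu⟩ := H.nondeg e he
  obtain ⟨α, hα⟩ := hline e
  have h0 : φ 0 = 0 := by have := hadd 0 0; rw [add_zero] at this; exact left_eq_add.mp this
  have hα0 : α ≠ 0 := fun h => he (hinj (by rw [hα, h, zero_smul, h0]))
  obtain ⟨γ, hγ⟩ := hline u
  have hτ : ∀ t, τ t = t := by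
    have key : ∀ t, τ t * γ = α * t := fun t => by
      obtain ⟨l, hl⟩ := hline (e + t • u)
      rw [hadd, hsmul, hα, hγ] at hl
      have h1 := congrArg (H.B e) hl
      have h3 := congrArg (fun x => H.B x u) hl
      simp only [H.add_left, H.add_right, H.smul_left, H.smul_right, H.self, mul_zero, add_zero,
        zero_add] at h1 h3
      have hl : α = l := mul_right_cancel₀ hu (by linear_combination h3)
      subst hl
      exact mul_right_cancel₀ hu (by linear_combination h1)
    have hγ : γ = α := by simpa using key 1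
    intro t
    exact mul_right_cancel₀ hα0 (by have := key t; rw [hγ] at this; linear_combination this)
  refine ⟨hτ, α, fun x => ?_⟩
  by_cases hx : ∃ c : F, x = c • e
  · obtain ⟨c, rfl⟩ := hx
    rw [hsmul, hτ, hα, smul_comm]
  push Not at hx
  obtain ⟨l, hl⟩ := hline x
  obtain ⟨l', hl'⟩ := hline (x + e)
  rw [hadd, hl, hα] at hl'
  by_cases hll : l = l'
  · subst hll
    have h1 : (α - l) • e = 0 := by linear_combination (norm := module) hl'
    rw [hl, ← sub_eq_zero.mp ((smul_eq_zero.mp h1).resolve_right he)]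
  · exfalso
    refine hx ((l' - α) / (l - l')) ?_
    have h1 : (l - l') • x = (l' - α) • e := by linear_combination (norm := module) hl'
    rw [div_eq_inv_mul, mul_smul, ← h1, smul_smul, inv_mul_cancel₀ (sub_ne_zero.mpr hll), one_smul]

/-- Only scalars commute projectively with all transvections. -/
theorem semilinear_trivial (τ : F →+* F) (φ : V → V)
    (hadd : ∀ u v, φ (u + v) = φ u + φ v) (hsmul : ∀ (c : F) u, φ (c • u) = τ c • φ u)
    (hinj : Function.Injective φ) {e : V} (he : e ≠ 0)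
    (hcomm : ∀ v, ∃ k : F, ∀ u, φ (H.tv v 1 u) = k • H.tv v 1 (φ u)) :
    (∀ c, τ c = c) ∧ ∃ l : F, ∀ u, φ u = l • u := by
  refine H.scalar_of_lines τ φ hadd hsmul hinj he fun v => ?_
  have h0 : φ 0 = 0 := by have := hadd 0 0; rw [add_zero] at this; exact left_eq_add.mp this
  rcases eq_or_ne v 0 with rfl | hv
  · exact ⟨0, by rw [h0, zero_smul]⟩
  obtain ⟨k, hk⟩ := hcomm v
  have hkv := hk v
  rw [H.tv_apply, H.self, mul_zero, zero_smul, add_zero, H.tv_apply, one_mul] at hkv
  have hk1 : k = 1 := by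
    by_contra hne
    have hw0 : φ v ≠ 0 := fun h => hv (hinj (h.trans h0.symm))
    have hk0 : k ≠ 0 := fun h => hw0 (by rw [hkv, h, zero_smul])
    have h1 : (k⁻¹ - 1) • φ v = H.B v (φ v) • v := by
      have h2 := congrArg (fun z => k⁻¹ • z) hkv
      simp only [smul_smul, inv_mul_cancel₀ hk0, one_smul] at h2
      linear_combination (norm := module) h2
    have h2 := congrArg (H.B v) h1
    rw [H.smul_right, H.smul_right, H.self, mul_zero] at h2
    have hl : k⁻¹ - 1 ≠ 0 := sub_ne_zero.mpr fun h => hne (inv_eq_one.mp h)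
    rw [(mul_eq_zero.mp h2).resolve_left hl, zero_smul] at h1
    exact hw0 ((smul_eq_zero.mp h1).resolve_left hl)
  obtain ⟨y, hy⟩ := H.nondeg v hv
  have h1 := hk ((H.B v y)⁻¹ • y)
  rw [hk1, one_smul, H.tv_apply, H.tv_apply, H.smul_right, inv_mul_cancel₀ hy, one_mul, one_mul,
    one_smul, hadd] at h1
  exact ⟨_, add_left_cancel h1⟩

variable (r : ℕ) [CharP F r] (hr : Odd r)
variable (N : Subgroup (V ≃ₗ[F] V)) (hnorm : ∀ g ∈ H.Iso, ∀ m ∈ N, g * m * g⁻¹ ∈ N)

include hr hnorm in
theorem exists_involution {m : V ≃ₗ[F] V} (hmN : m ∈ N) (hm : m ∈ H.Iso)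
    (hns : ¬ IsScalar m) (h3 : ∀ a b : V, ∃ z, z ≠ 0 ∧ H.B a z = 0 ∧ H.B b z = 0) :
    ∃ d ∈ N, d * d = 1 ∧ d ∈ H.Iso ∧ ¬ IsScalar d := by
  let N' : Subgroup H.Iso := N.subgroupOf H.Iso
  have : N'.Normal := ⟨fun n hn g => hnorm g.1 g.2 n.1 hn⟩
  let q : H.Iso →* H.Iso ⧸ N' := QuotientGroup.mk' N'
  let T : V → F → H.Iso := fun v t => ⟨H.tv v t, H.tv_mem v t⟩
  have hq : ∀ x : H.Iso, q x = 1 ↔ x.1 ∈ N := fun x => QuotientGroup.eq_one_iff x
  have hTm : ∀ v s t, q (T v s) * q (T v t) = q (T v (s + t)) := fun v s t => by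
    rw [← map_mul]; exact congrArg q (Subtype.ext (H.tv_mul v s t))
  have hmove : ∀ g : H.Iso, g.1 ∈ N → ∀ v t, q (T (g.1 v) t) = q (T v t) := fun g hg v t => by
    rw [show T (g.1 v) t = g * T v t * g⁻¹ from Subtype.ext (H.tv_conj g.2 v t).symm, map_mul,
      map_mul, map_inv, (hq g).mpr hg, one_mul, inv_one, mul_one]
  -- an element moving some vector off its orthogonal
  obtain ⟨g, hg, v, hgv⟩ : ∃ g : H.Iso, g.1 ∈ N ∧ ∃ v, H.B v (g.1 v) ≠ 0 := by
    obtain ⟨v, hv⟩ : ∃ v, ∀ l : F, m v ≠ l • v := by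
      by_contra hall
      push Not at hall
      rcases subsingleton_or_nontrivial V with hV | hV
      · exact hns ⟨1, fun x => Subsingleton.elim _ _⟩
      · obtain ⟨e, he⟩ := exists_ne (0 : V)
        obtain ⟨-, l, hl⟩ := H.scalar_of_lines (RingHom.id F) m (map_add m)
          (fun c u => map_smul m c u) m.injective he hall
        exact hns ⟨l, hl⟩
    by_cases hc : H.B v (m v) = 0
    swap
    · exact ⟨⟨m, hm⟩, hmN, v, hc⟩
    have hw : m v ≠ 0 := fun h => hv 0 (by rw [h, zero_smul])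
    obtain ⟨u, hwu, hvu⟩ : ∃ u, H.B (m v) u = 0 ∧ H.B v u ≠ 0 := by
      by_contra hall
      push Not at hall
      obtain ⟨l, hl⟩ := H.eq_smul_of_perp hw hall
      have hl0 : l ≠ 0 := fun h => hw (by rw [hl, h, zero_smul, map_zero])
      exact hv l⁻¹ (by conv_rhs => rw [hl]; rw [smul_smul, inv_mul_cancel₀ hl0, one_smul])
    refine ⟨T (m v) 1 * T v (-1), (hq _).mp ?_, u, ?_⟩
    · rw [map_mul, hmove ⟨m, hm⟩ hmN, hTm, add_neg_cancel]
      exact (hq _).mpr (by rw [show (T v (0 : F)).1 = 1 from H.tv_zero v]; exact N.one_mem)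
    · change H.B u (H.tv (m v) 1 (H.tv v (-1) u)) ≠ 0
      rw [H.tv_apply, H.tv_apply, H.add_right (m v), H.smul_right _ (m v), hwu, H.swap (m v) v, hc]
      simp only [neg_zero, mul_zero, add_zero, zero_smul, H.add_right, H.smul_right, H.self, zero_add]
      rw [H.swap u v]
      simpa using hvu
  obtain ⟨w, hw⟩ : ∃ w, w = g.1 v := ⟨_, rfl⟩
  rw [← hw] at hgv
  set c := H.B v w with hc
  have hwv : H.B w v = -c := H.swap w v
  let s : F := (c * c)⁻¹
  let ω : H.Iso := T v 1 * T w s * T v 1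
  have happ : ∀ x, ω.1 x = H.tv v 1 (H.tv w s (H.tv v 1 x)) := fun x => rfl
  have hωv : ω.1 v = (-c⁻¹) • w := by
    rw [happ]
    simp only [H.tv_apply, H.add_right, H.smul_right, H.self, hwv, ← hc, mul_zero, zero_smul,
      add_zero, s]
    match_scalars <;> field_simp <;> ring
  have hωw : ω.1 w = c • v := by
    rw [happ]
    simp only [H.tv_apply, H.add_right, H.smul_right, H.self, hwv, ← hc, mul_zero, zero_smul,
      add_zero, s]
    match_scalars <;> field_simp <;> ring
  have hωp : ∀ x, H.B v x = 0 → H.B w x = 0 → ω.1 x = x := fun x hx hx' => by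
    rw [happ]
    simp only [H.tv_apply, H.add_right, H.smul_right, hx, hx', mul_zero, zero_smul, add_zero]
  have hsqv : ω.1 (ω.1 v) = -v := by
    rw [hωv, map_smul, hωw, smul_smul, neg_mul, inv_mul_cancel₀ hgv, neg_one_smul]
  have hsqw : ω.1 (ω.1 w) = -w := by
    rw [hωw, map_smul, hωv, smul_smul, mul_neg, mul_inv_cancel₀ hgv, neg_one_smul]
  have hω4 : ω ^ 4 = 1 := by
    refine Subtype.ext (LinearEquiv.ext fun x => ?_)
    change ω.1 (ω.1 (ω.1 (ω.1 x))) = x
    obtain ⟨y, hy⟩ : ∃ y, y = x - (H.B w x / -c) • v - (H.B v x / c) • w := ⟨_, rfl⟩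
    have hvy : H.B v y = 0 := by
      simp only [hy, H.sub_right, H.smul_right, H.self, ← hc]; field_simp; ring
    have hwy : H.B w y = 0 := by
      simp only [hy, H.sub_right, H.smul_right, H.self, hwv]; field_simp; ring
    rw [show x = (H.B w x / -c) • v + (H.B v x / c) • w + y by rw [hy]; abel]
    simp only [map_add, map_smul, map_neg, hsqv, hsqw, hωp y hvy hwy, neg_neg]
  have hωr : q ω ^ r = 1 := by
    rw [show q ω = q (T v 1) * q (T w s) * q (T v 1) by rw [← map_mul, ← map_mul], hw,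
      hmove g hg, hTm, hTm, ← map_pow, hq]
    have h : (T v (1 + s + 1) ^ r).1 = 1 := by
      rw [SubmonoidClass.coe_pow]
      change H.tv v _ ^ r = 1
      rw [H.tv_pow, CharP.cast_eq_zero, zero_mul, H.tv_zero]
    rw [h]; exact N.one_mem
  obtain ⟨k, hk⟩ := hr
  have hωN : ω.1 ∈ N := by
    rw [← hq]
    have h1 : ω = (ω ^ r) ^ r := by
      rw [← pow_mul, show r * r = 4 * (k * k + k) + 1 by rw [hk]; ring, pow_add, pow_mul, hω4,
        one_pow, one_mul, pow_one]
    rw [h1, map_pow, map_pow, hωr, one_pow]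
  refine ⟨(ω * ω).1, N.mul_mem hωN hωN, ?_, (ω * ω).2, ?_⟩
  · exact congrArg Subtype.val (show ω * ω * (ω * ω) = 1 by rw [← hω4]; simp only [pow_succ, pow_zero, one_mul, mul_assoc])
  · rintro ⟨l, hl⟩
    obtain ⟨z, hz, hvz, hwz⟩ := h3 v w
    have h1 := hl z
    rw [show (ω * ω).1 z = ω.1 (ω.1 z) from rfl, hωp z hvz hwz, hωp z hvz hwz] at h1
    have hl1 : l = 1 := smul_left_injective F hz (by
      change l • z = (1 : F) • z
      rw [one_smul, ← h1])
    have h2 := hl v
    rw [show (ω * ω).1 v = ω.1 (ω.1 v) from rfl, hsqv, hl1, one_smul] at h2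
    have h2' : (2 : F) ≠ 0 := fun h => by
      have h4 : r ∣ 2 := (CharP.cast_eq_zero_iff F r 2).mp (by exact_mod_cast h)
      rcases (Nat.dvd_prime Nat.prime_two).mp h4 with h5 | h5
      · exact CharP.ringChar_ne_one (R := F) (by rw [ringChar.eq F r, h5])
      · omega
    have h6 : (2 : F) • v = 0 := by rw [two_smul]; nth_rewrite 1 [← h2]; exact neg_add_cancel v
    have hv0 : v ≠ 0 := fun h => hgv (by rw [hc, h, H.swap, H.zero_right, neg_zero])
    exact (smul_eq_zero.mp h6).elim h2' hv0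

end Alt

end Cfsg.Agent.Small.Forms
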