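import Mathlib
import Cfsg.Agent.Lib.Small.Forms.Alternating

/-!
Linear automorphisms of column vectors as invertible matrices: determinants of reflections and
transvections, and orthogonal complements of pairs.
-/

set_option autoImplicit false
set_option linter.unusedSectionVars false

namespace Cfsg.Agent.Small.Forms

open Matrix

variable {F : Type*} [Field F] {n : ℕ}

/-- Invertible matrices as linear automorphisms. -/
noncomputable def lEquiv : GL (Fin n) F ≃* ((Fin n → F) ≃ₗ[F] (Fin n → F)) :=
  (Matrix.GeneralLinearGroup.toLin).trans (LinearMap.GeneralLinearGroup.generalLinearEquiv F _)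

theorem lEquiv_apply (g : GL (Fin n) F) (x : Fin n → F) : lEquiv g x = g.val *ᵥ x := rfl

theorem lEquiv_symm_mulVec (e : (Fin n → F) ≃ₗ[F] (Fin n → F)) (x : Fin n → F) :
    (lEquiv.symm e).val *ᵥ x = e x := by
  rw [← lEquiv_apply, MulEquiv.apply_symm_apply]

theorem exists_perp (hn : 3 ≤ n) (f g : (Fin n → F) →ₗ[F] F) :
    ∃ z : Fin n → F, z ≠ 0 ∧ f z = 0 ∧ g z = 0 := by
  by_contra hall
  push Not at hall
  have hinj : Function.Injective (f.prod g) := by
    rw [injective_iff_map_eq_zero]
    intro z hz
    by_contra hz0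
    exact hall z hz0 (congrArg Prod.fst hz) (congrArg Prod.snd hz)
  have := LinearMap.finrank_le_finrank_of_injective hinj
  simp at this
  omega

theorem Herm.exists_perp' (hn : 3 ≤ n) (H : Herm F (Fin n → F)) (a b : Fin n → F) :
    ∃ z, z ≠ 0 ∧ H.B a z = 0 ∧ H.B b z = 0 :=
  exists_perp hn
    { toFun := H.B a, map_add' := H.add_right a, map_smul' := fun c u => H.smul_right c a u }
    { toFun := H.B b, map_add' := H.add_right b, map_smul' := fun c u => H.smul_right c b u }

theorem Alt.exists_perp' (hn : 3 ≤ n) (H : Alt F (Fin n → F)) (a b : Fin n → F) :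
    ∃ z, z ≠ 0 ∧ H.B a z = 0 ∧ H.B b z = 0 :=
  exists_perp hn
    { toFun := H.B a, map_add' := H.add_right a, map_smul' := fun c u => H.smul_right c a u }
    { toFun := H.B b, map_add' := H.add_right b, map_smul' := fun c u => H.smul_right c b u }

/-- The determinant of a reflection. -/
theorem Herm.det_refl (H : Herm F (Fin n → F)) {v : Fin n → F} (hv : H.B v v ≠ 0) :
    (lEquiv.symm (H.refl v)).val.det = -1 := by
  let κ : F := -2 / H.B v v
  let row : Fin n → F := fun j => H.B v (Pi.single j 1)
  have hval : (lEquiv.symm (H.refl v)).val =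
      1 + Matrix.replicateCol Unit (κ • v) * Matrix.replicateRow Unit row := by
    refine Matrix.ext_of_mulVec_single fun j => ?_
    rw [lEquiv_symm_mulVec, H.refl_apply]
    funext k
    simp [Matrix.mul_apply, row, κ, Matrix.one_apply, Pi.single_apply]
    ring
  rw [hval, Matrix.det_one_add_replicateCol_mul_replicateRow, dotProduct_smul]
  have h : row ⬝ᵥ v = H.B v v := by
    have : (Fintype.linearCombination F fun j => (Pi.single j 1 : Fin n → F)) v = v := by
      simpa [Fintype.linearCombination_apply] using (pi_eq_sum_univ' v).symm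
    let f : (Fin n → F) →ₗ[F] F :=
      { toFun := H.B v, map_add' := H.add_right v, map_smul' := fun c u => H.smul_right c v u }
    change _ = f v
    conv_rhs => rw [← this, Fintype.linearCombination_apply, map_sum]
    refine Finset.sum_congr rfl fun j _ => ?_
    rw [map_smul, smul_eq_mul, mul_comm]
    rfl
  rw [h, smul_eq_mul, div_mul_cancel₀ _ hv]
  ring

/-- The determinant of a transvection. -/
theorem Alt.det_tv [Finite F] (r : ℕ) [Fact r.Prime] [CharP F r] (H : Alt F (Fin n → F))
    (v : Fin n → F) (t : F) : (lEquiv.symm (H.tv v t)).val.det = 1 := by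
  apply frobenius_inj F r
  rw [frobenius_def, frobenius_def, one_pow, ← Matrix.det_pow, ← Units.val_pow_eq_pow_val,
    ← map_pow, H.tv_pow, CharP.cast_eq_zero, zero_mul, H.tv_zero, map_one, Units.val_one,
    Matrix.det_one]

/-- An isotropic vector of a hermitian form. -/
theorem Herm.exists_isotropic [Fintype F] (h2 : (2 : F) ≠ 0) (hn : 3 ≤ n)
    (H : Herm F (Fin n → F))
    (hnorm : (∀ a, H.σ a = a) ∨ ∀ c, H.σ c = c → ∃ μ, μ * H.σ μ = c) :
    ∃ e, e ≠ 0 ∧ H.B e e = 0 := by
  by_contra hall
  push Not at hall
  obtain ⟨x, hx⟩ : ∃ x : Fin n → F, x ≠ 0 := ⟨fun _ => 1, fun h => one_ne_zero (congrFun h ⟨0, by omega⟩)⟩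
  obtain ⟨y, hy, hxy, -⟩ := H.exists_perp' hn x x
  obtain ⟨z, hz, hxz, hyz⟩ := H.exists_perp' hn x y
  have hyx : H.B y x = 0 := by rw [← H.symm, hxy, map_zero]
  have hzx : H.B z x = 0 := by rw [← H.symm, hxz, map_zero]
  have hzy : H.B z y = 0 := by rw [← H.symm, hyz, map_zero]
  rcases hnorm with hid | hnorm
  · have hodd : Fintype.card F % 2 = 1 :=
      FiniteField.odd_card_of_char_ne_two fun h => by
        have : CharP F 2 := h ▸ ringChar.charP F
        exact h2 (by exact_mod_cast CharP.cast_eq_zero F 2)
    obtain ⟨s, t, hst⟩ := FiniteField.exists_root_sum_quadratic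
      (f := Polynomial.C (H.B x x) * Polynomial.X ^ 2)
      (g := Polynomial.C (H.B y y) * Polynomial.X ^ 2 + Polynomial.C (H.B z z))
      (Polynomial.degree_C_mul_X_pow 2 (hall x hx))
      (by
        rw [Polynomial.degree_add_eq_left_of_degree_lt, Polynomial.degree_C_mul_X_pow 2 (hall y hy)]
        · rfl
        · rw [Polynomial.degree_C_mul_X_pow 2 (hall y hy)]
          exact lt_of_le_of_lt Polynomial.degree_C_le (by norm_num)) hodd
    simp only [Polynomial.eval_add, Polynomial.eval_mul, Polynomial.eval_C, Polynomial.eval_pow,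
      Polynomial.eval_X] at hst
    have hQ : H.B (s • x + t • y + z) (s • x + t • y + z) = 0 := by
      simp only [H.add_left, H.add_right, H.smul_left, H.smul_right, hid, hxy, hyx, hxz, hzx, hyz,
        hzy]
      linear_combination hst
    refine hall _ (fun h0 => ?_) hQ
    have h1 := congrArg (H.B z) h0
    simp only [H.add_right, H.smul_right, hzx, hzy, H.zero_right] at h1
    exact hall z hz (by linear_combination h1)
  · obtain ⟨μ, hμ⟩ := hnorm (-(H.B y y) / H.B x x) (by rw [map_div₀, map_neg, H.symm, H.symm])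
    have hQ : H.B (μ • x + y) (μ • x + y) = 0 := by
      rw [eq_div_iff (hall x hx)] at hμ
      simp only [H.add_left, H.add_right, H.smul_left, H.smul_right, hxy, hyx]
      linear_combination hμ
    refine hall _ (fun h0 => ?_) hQ
    have h1 := congrArg (H.B y) h0
    simp only [H.add_right, H.smul_right, hyx, H.zero_right] at h1
    exact hall y hy (by linear_combination h1)

end Cfsg.Agent.Small.Forms
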